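import Groth.Agent.Lib.MidExact25.Main
import Groth.Agent.Lib.Pi1Gen25.Basic
import Groth.Agent.Lib.GeomRed18.Apps
import Groth.Agent.Lib.AbRigid.Connected

/-!
# Families of covers of a proper variety over a connected base are split by a constant cover
-/

open CategoryTheory Limits AlgebraicGeometry TopologicalSpace

set_option autoImplicit false
set_option linter.style.haveILetI false
set_option backward.isDefEq.respectTransparency false

namespace Groth.Agent.AlgClosedExt25

universe u

variable {k : Type u} [Field k]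

/-- Reduced schemes over perfect fields are geometrically reduced. -/
theorem geometricallyReduced_of_isReduced [PerfectField k] {X : Scheme.{u}} (f : X ⟶ Spec (CommRingCat.of k))
    [IsReduced X] : GeometricallyReduced f := by
  letI : X.Over (Spec (CommRingCat.of k)) := ⟨f⟩
  exact (GeomRed.geometricallyReduced_iff_forall (k := k)).mpr fun x => by
    haveI : _root_.IsReduced (X.presheaf.stalk x) := inferInstance
    exact GeomRed.isGeomReducedAt_of_perfectField (k := k) (X := X) x

/-- A connected scheme of finite type over an algebraically closed field is geometrically connected. -/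
theorem geometricallyConnected_of_connected [IsAlgClosed k] {X : Scheme.{u}} (f : X ⟶ Spec (CommRingCat.of k))
    [LocallyOfFiniteType f] [ConnectedSpace X] : GeometricallyConnected f :=
  ⟨fun L _ y Z fst snd hsq => by
    haveI := AbRigid.connectedSpace_pullback_of_isAlgClosed (K := k) f y
    exact (hsq.isoPullback.hom.homeomorph.symm).surjective.connectedSpace
      (hsq.isoPullback.hom.homeomorph.symm).continuous⟩

/-- A connected cover dominating a given one at all points of a fibre. -/
theorem exists_dominating_cover {X : Scheme.{u}} [IsNoetherian X] [ConnectedSpace X] {Ω : Type u} [Field Ω]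
    [IsAlgClosed Ω] (ξ : Spec (CommRingCat.of Ω) ⟶ X) (V : FEt.Cat X) :
    ∃ (X' : FEt.Cat X) (_ : ConnectedSpace X'.left) (p : FEt.fiberObj ξ X'),
      ∀ s : FEt.fiberObj ξ V, ∃ φ : X' ⟶ V, (FEt.fiber ξ).map φ p = s := by
  classical
  haveI := FEtEq25.finite_fiberObj ξ V
  haveI := Fintype.ofFinite (FEt.fiberObj ξ V)
  obtain ⟨X', h, p, hp⟩ := Pi1Gen25.exists_dominating ξ
    ((Finset.univ : Finset (FEt.fiberObj ξ V)).toList.map fun s => (⟨V, s⟩ : Σ Z : FEt.Cat X, FEt.fiberObj ξ Z))
  exact ⟨X', h, p, fun s => hp ⟨V, s⟩ (List.mem_map.2 ⟨s, Finset.mem_toList.2 (Finset.mem_univ _), rfl⟩)⟩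

variable [IsAlgClosed k]

/-- A family of covers of a connected proper reduced variety over a connected base has, at every
geometric point of the base, a point with values in a constant connected cover. -/
theorem exists_constant_domination {X U : Scheme.{u}} (f : X ⟶ Spec (CommRingCat.of k)) [IsProper f]
    [IsReduced X] [ConnectedSpace X] (g : U ⟶ Spec (CommRingCat.of k)) [IsNoetherian U] [ConnectedSpace U]
    (u₀ : Spec (CommRingCat.of k) ⟶ U) (hu₀ : u₀ ≫ g = 𝟙 _)
    (Z : FEt.Cat (pullback f g)) [Nonempty Z.left] :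
    ∃ (X' : FEt.Cat X) (_ : ConnectedSpace X'.left),
      ∀ (Ω : Type u) [Field Ω] [IsAlgClosed Ω] (t : Spec (CommRingCat.of Ω) ⟶ U),
        ∃ m : pullback (X'.hom ≫ f) (t ≫ g) ⟶ Z.left,
          m ≫ Z.hom = pullback.map (X'.hom ≫ f) (t ≫ g) f g X'.hom t (𝟙 _) (by simp) (by simp) := by
  haveI : IsLocallyNoetherian X := LocallyOfFiniteType.isLocallyNoetherian f
  haveI : CompactSpace X := QuasiCompact.compactSpace_of_compactSpace f
  haveI : IsNoetherian X := {}
  let z : Z.left ⟶ pullback f g := Z.hom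
  haveI : IsFinite z := Z.prop.1
  haveI : Etale z := Z.prop.2
  let i₀ : X ⟶ pullback f g := pullback.lift (𝟙 X) (f ≫ u₀) (by simp [hu₀])
  obtain ⟨K, _, _, ξ, -⟩ := FEtEq25.exists_geomPoint (W := X) (Classical.arbitrary X)
  obtain ⟨X', hX', p, hp⟩ := exists_dominating_cover ξ ((FEt.restrict i₀).obj Z)
  refine ⟨X', hX', ?_⟩
  let x' : X'.left ⟶ X := X'.hom
  haveI : IsFinite x' := X'.prop.1
  haveI : Etale x' := X'.prop.2
  haveI : IsProper (x' ≫ f) := inferInstance
  haveI : IsReduced X'.left := MidExact25.isReduced_of_etale x'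
  haveI := geometricallyReduced_of_isReduced (x' ≫ f)
  haveI := geometricallyConnected_of_connected (x' ≫ f)
  haveI : UniversallyOpen (x' ≫ f) := inferInstance
  let B := pullback (x' ≫ f) g
  let sndB : B ⟶ U := pullback.snd (x' ≫ f) g
  haveI : ConnectedSpace B := GeometricallyConnected.connectedSpace sndB sndB.isOpenMap
  let θ : B ⟶ pullback f g := pullback.map (x' ≫ f) g f g x' (𝟙 _) (𝟙 _) (by simp) (by simp)
  have hθ : IsPullback θ (pullback.fst (x' ≫ f) g) (pullback.fst f g) x' := by
    refine IsPullback.of_right ?_ (pullback.lift_fst _ _ _) (IsPullback.of_hasPullback f g).flip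
    rw [show θ ≫ pullback.snd f g = pullback.snd (x' ≫ f) g from (pullback.lift_snd _ _ _).trans (Category.comp_id _)]
    exact (IsPullback.of_hasPullback (x' ≫ f) g).flip
  haveI : Surjective x' := by
    refine ⟨fun x => ?_⟩
    obtain ⟨y, -, hy⟩ := ((FEtEq25.isClopen_image x' isClopen_univ).eq_univ
      (Set.univ_nonempty.image x')).ge (Set.mem_univ x)
    exact ⟨y, hy⟩
  haveI : Surjective θ := MorphismProperty.of_isPullback (P := @Surjective) hθ.flip inferInstance
  let P := pullback z θ
  let πP : P ⟶ B := pullback.snd z θ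
  haveI : IsFinite πP := MorphismProperty.pullback_snd _ _ ‹IsFinite z›
  haveI : Etale πP := MorphismProperty.pullback_snd _ _ ‹Etale z›
  haveI : LocallyOfFiniteType (pullback.snd (x' ≫ f) g) := inferInstance
  haveI : IsLocallyNoetherian P := LocallyOfFiniteType.isLocallyNoetherian (πP ≫ sndB)
  haveI : CompactSpace P := QuasiCompact.compactSpace_of_compactSpace (πP ≫ sndB)
  haveI : IsNoetherian P := {}
  obtain ⟨w, -⟩ := Surjective.surj (f := pullback.fst z θ) (Classical.arbitrary Z.left)
  let P₁ : P.Opens := ⟨connectedComponent w, (Pi1Gen25.isClopen_component w).2⟩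
  have hP₁ : IsClosed (P₁ : Set P) := (Pi1Gen25.isClopen_component w).1
  haveI : IsClosedImmersion P₁.ι := .of_isPreimmersion _ (by rw [Scheme.Opens.range_ι]; exact hP₁)
  let Y : FEt.Cat B := MorphismProperty.Over.mk ⊤ (P₁.ι ≫ πP) ⟨inferInstance, inferInstance⟩
  haveI : ConnectedSpace Y.left :=
    isConnected_iff_connectedSpace.1 (show _root_.IsConnected (P₁ : Set P) from isConnected_connectedComponent)
  -- the section over the base point
  let i' : X'.left ⟶ B := pullback.lift (𝟙 _) ((x' ≫ f) ≫ u₀) (by simp [hu₀])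
  have hi' : i' ≫ θ = x' ≫ i₀ := by
    apply pullback.hom_ext <;> simp [i', θ, i₀, x']
    all_goals exact Category.id_comp _
  let e : Spec (CommRingCat.of K) ⟶ B := p.1 ≫ i'
  haveI : Nonempty ↥(P₁ : Scheme.{u}) := ⟨⟨w, mem_connectedComponent⟩⟩
  obtain ⟨b, -, hb⟩ := ((FEtEq25.isClopen_image (P₁.ι ≫ πP) isClopen_univ).eq_univ
    (Set.univ_nonempty.image (P₁.ι ≫ πP : (P₁ : Scheme.{u}) ⟶ B))).ge (Set.mem_univ (e (IsLocalRing.closedPoint K)))
  obtain ⟨q, hq, -⟩ := FEtEq25.exists_fiber_point e (P₁.ι ≫ πP) b hb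
  let s : FEt.fiberObj ξ ((FEt.restrict i₀).obj Z) :=
    ⟨pullback.lift (q ≫ P₁.ι ≫ pullback.fst z θ) ξ (by
      simp only [Category.assoc]
      rw [pullback.condition, ← Category.assoc P₁.ι, ← Category.assoc q]
      rw [show q ≫ P₁.ι ≫ πP = e from hq]
      show (p.1 ≫ i') ≫ θ = ξ ≫ i₀
      rw [Category.assoc, hi', ← Category.assoc, show p.1 ≫ x' = ξ from p.2]), pullback.lift_snd _ _ _⟩
  obtain ⟨φ, hφ⟩ := hp s
  let φ' : X'.left ⟶ Z.left := φ.left ≫ pullback.fst z i₀
  have hφ' : φ' ≫ z = i' ≫ θ := by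
    rw [hi', Category.assoc, pullback.condition, ← Category.assoc]
    exact congrArg (· ≫ i₀) (FEtEq25.w φ)
  let τ : X'.left ⟶ P := pullback.lift φ' i' hφ'
  have hpτ : p.1 ≫ τ = q ≫ P₁.ι := by
    apply pullback.hom_ext
    · have h1 : p.1 ≫ φ.left = s.1 := congrArg Subtype.val hφ
      rw [Category.assoc, pullback.lift_fst, show φ' = φ.left ≫ pullback.fst z i₀ from rfl, reassoc_of% h1,
        pullback.lift_fst, Category.assoc]
    · rw [Category.assoc, pullback.lift_snd, Category.assoc, show q ≫ P₁.ι ≫ πP = e from hq]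
  have hτr : Set.range τ ⊆ Set.range P₁.ι := by
    rw [Scheme.Opens.range_ι]
    have hmem : τ (p.1 (IsLocalRing.closedPoint K)) ∈ (P₁ : Set P) := by
      rw [← Scheme.Hom.comp_apply, hpτ, Scheme.Hom.comp_apply]
      exact (q _).2
    have h := (isConnected_range τ.continuous).subset_connectedComponent (x := τ (p.1 (IsLocalRing.closedPoint K))) ⟨_, rfl⟩
    rwa [← show connectedComponent w = connectedComponent (τ (p.1 (IsLocalRing.closedPoint K))) from
      connectedComponent_eq hmem] at h
  let τ₁ := IsOpenImmersion.lift P₁.ι τ hτr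
  let σ : pullback sndB u₀ ⟶ Y.left := pullback.fst sndB u₀ ≫ pullback.fst (x' ≫ f) g ≫ τ₁
  have hσ : σ ≫ Y.hom = pullback.fst sndB u₀ := by
    show (pullback.fst sndB u₀ ≫ pullback.fst (x' ≫ f) g ≫ τ₁) ≫ P₁.ι ≫ πP = _
    simp only [Category.assoc, τ₁, IsOpenImmersion.lift_fac_assoc, τ, πP, pullback.lift_snd]
    apply pullback.hom_ext
    · simp [i']
    · simp only [Category.assoc, i', pullback.lift_snd]
      have h1 : pullback.fst (x' ≫ f) g ≫ x' ≫ f = sndB ≫ g := pullback.condition
      have h2 : pullback.fst sndB u₀ ≫ sndB = pullback.snd sndB u₀ ≫ u₀ := pullback.condition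
      rw [reassoc_of% h1, reassoc_of% h2, reassoc_of% hu₀]
      exact h2.symm
  have hfib : ∀ (L : Type u) [Field L] [IsAlgClosed L] (t : Spec (CommRingCat.of L) ⟶ U),
      ConnectedSpace ↥(pullback sndB t) ∧ IsReduced (pullback sndB t) := fun L _ _ t =>
    ⟨GeometricallyConnected.geometrically_connectedSpace (f := sndB) t _ _ (IsPullback.of_hasPullback sndB t),
      GeometricallyReduced.geometrically_isReduced (f := sndB) t _ _ (IsPullback.of_hasPullback sndB t)⟩
  haveI : Flat sndB := inferInstance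
  haveI : LocallyOfFinitePresentation sndB := inferInstance
  obtain ⟨D, ⟨eD⟩⟩ := MidExact25.essImage_of_section sndB hfib Y k u₀ σ hσ
  intro Ω _ _ t
  let dh : D.left ⟶ U := D.hom
  haveI : IsFinite dh := D.prop.1
  haveI : Etale dh := D.prop.2
  let v : ↥(pullback dh sndB) := eD.inv.left (Classical.arbitrary Y.left)
  haveI : Nonempty D.left := ⟨pullback.fst dh sndB v⟩
  haveI : Surjective dh := by
    refine ⟨fun x => ?_⟩
    obtain ⟨y, -, hy⟩ := ((FEtEq25.isClopen_image dh isClopen_univ).eq_univ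
      (Set.univ_nonempty.image (dh : D.left → U))).ge (Set.mem_univ x)
    exact ⟨y, hy⟩
  obtain ⟨a, ha⟩ := Surjective.surj (f := dh) (t (IsLocalRing.closedPoint Ω))
  obtain ⟨d, hd, -⟩ := FEtEq25.exists_fiber_point t dh a ha
  let c : pullback (x' ≫ f) (t ≫ g) ⟶ B :=
    pullback.map (x' ≫ f) (t ≫ g) (x' ≫ f) g (𝟙 _) t (𝟙 _) (by simp) (by simp)
  let m₁ : pullback (x' ≫ f) (t ≫ g) ⟶ pullback D.hom sndB :=
    pullback.lift (pullback.snd _ _ ≫ d) c (by
      rw [Category.assoc]
      erw [show d ≫ D.hom = t from hd]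
      simp [c, sndB])
  have he : eD.hom.left ≫ P₁.ι ≫ πP = pullback.snd D.hom sndB := FEtEq25.w eD.hom
  have hm₁ : m₁ ≫ eD.hom.left ≫ P₁.ι ≫ πP = c := (congrArg (m₁ ≫ ·) he).trans (pullback.lift_snd _ _ _)
  refine ⟨m₁ ≫ eD.hom.left ≫ P₁.ι ≫ pullback.fst z θ, ?_⟩
  simp only [Category.assoc]
  rw [pullback.condition]
  refine Eq.trans ?_ (show c ≫ θ = _ from ?_)
  · simp only [← Category.assoc] at hm₁ ⊢
    rw [← hm₁]
  · apply pullback.hom_ext <;> simp [c, θ, x']

end Groth.Agent.AlgClosedExt25
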