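import Groth.Agent.Lib.FEtEq25.Graph
import Groth.Agent.Lib.GeomIrr18.Scheme
import Groth.Agent.Lib.Pi1Gen25.Basic
import Mathlib.AlgebraicGeometry.Geometrically.Connected

/-!
# Full faithfulness of restriction along thickenings and connected field extensions
-/

open CategoryTheory Limits AlgebraicGeometry TopologicalSpace

set_option autoImplicit false
set_option linter.style.haveILetI false
set_option backward.isDefEq.respectTransparency false

namespace Groth.Agent.AlgClosedExt25

universe u

/-- Full faithfulness when all base changes have saturated clopens. -/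
theorem fullyFaithful_of_saturated {X Y : Scheme.{u}} (i : Y ⟶ X) [Surjective i]
    (H : ∀ {Z : Scheme.{u}} (h : Z ⟶ X), FEt.prop h → ∀ C : Set ↥(pullback h i), IsClopen C →
      IsClopen (pullback.fst h i '' C) ∧ pullback.fst h i ⁻¹' (pullback.fst h i '' C) = C) :
    (FEt.restrict i).Full ∧ (FEt.restrict i).Faithful := by
  have hT : ∀ S : Set X, IsClopen S → S.Nonempty → (S ∩ Set.range i).Nonempty := by
    intro S _ hne
    obtain ⟨x, hx⟩ := hne
    exact ⟨x, hx, i.surjective x⟩
  exact ⟨FEtEq25.full_restrict _ hT fun h hh C hC => ⟨_, H h hh C hC⟩, FEtEq25.faithful_restrict _ hT⟩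

/-- Restriction along a surjective closed immersion is fully faithful. -/
theorem fullyFaithful_of_closedImmersion {X Y : Scheme.{u}} (i : Y ⟶ X) [IsClosedImmersion i] [Surjective i] :
    (FEt.restrict i).Full ∧ (FEt.restrict i).Faithful := by
  refine fullyFaithful_of_saturated i fun {Z} h _ C hC => ?_
  let π := pullback.fst h i
  haveI : IsClosedImmersion π := MorphismProperty.pullback_fst _ _ ‹IsClosedImmersion i›
  haveI : Surjective π := MorphismProperty.pullback_fst _ _ ‹Surjective i›
  have hpre : π ⁻¹' (π '' C) = C := Set.preimage_image_eq C π.isClosedEmbedding.injective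
  have hcompl : (π '' C)ᶜ = π '' Cᶜ :=
    (Set.image_compl_eq ⟨π.isClosedEmbedding.injective, π.surjective⟩).symm
  exact ⟨⟨π.isClosedEmbedding.isClosedMap _ hC.1,
    isClosed_compl_iff.1 (hcompl ▸ π.isClosedEmbedding.isClosedMap _ hC.compl.1)⟩, hpre⟩

/-- Restriction along a universally open surjection with geometrically connected fibres is fully faithful. -/
theorem fullyFaithful_of_geometricallyConnected {X Y : Scheme.{u}} (i : Y ⟶ X) [GeometricallyConnected i]
    [UniversallyOpen i] : (FEt.restrict i).Full ∧ (FEt.restrict i).Faithful := by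
  refine fullyFaithful_of_saturated i fun {Z} h _ C hC => ?_
  let π := pullback.fst h i
  haveI : GeometricallyConnected π := inferInstance
  haveI : UniversallyOpen π := MorphismProperty.pullback_fst _ _ ‹UniversallyOpen i›
  have hsat : ∀ a b, π a = π b → a ∈ C → b ∈ C := by
    intro a b hab ha
    exact (π.isConnected_preimage_singleton (π a)).isPreconnected.subset_isClopen hC ⟨a, rfl, ha⟩ hab.symm
  have hpre : π ⁻¹' (π '' C) = C :=
    Set.Subset.antisymm (fun b ⟨a, ha, hab⟩ => hsat a b hab ha) (Set.subset_preimage_image _ _)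
  have hcompl : (π '' C)ᶜ = π '' Cᶜ := by
    conv_rhs => rw [← hpre, ← Set.preimage_compl, Set.image_preimage_eq _ π.surjective]
  exact ⟨⟨isOpen_compl_iff.1 (hcompl ▸ π.isOpenMap _ hC.compl.2), π.isOpenMap _ hC.2⟩, hpre⟩

/-- A commutative square gives isomorphic composites of restrictions. -/
noncomputable def restrictSquare {A B B' X : Scheme.{u}} (a : A ⟶ B) (b : B ⟶ X) (c : A ⟶ B') (d : B' ⟶ X)
    (h : a ≫ b = c ≫ d) (V : FEt.Cat X) :
    (FEt.restrict a).obj ((FEt.restrict b).obj V) ≅ (FEt.restrict c).obj ((FEt.restrict d).obj V) :=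
  MorphismProperty.Over.isoMk
    (pullbackLeftPullbackSndIso V.hom b a ≪≫ pullback.congrHom rfl h ≪≫ (pullbackLeftPullbackSndIso V.hom d c).symm)
    (by
      show (pullbackLeftPullbackSndIso V.hom b a ≪≫ pullback.congrHom rfl h ≪≫
        (pullbackLeftPullbackSndIso V.hom d c).symm).hom ≫ pullback.snd (pullback.snd V.hom d) c =
          pullback.snd (pullback.snd V.hom b) a
      simp)

/-- Restriction along the extension of an algebraically closed field. -/
theorem fullyFaithful_fieldExtension (k k' : Type u) [Field k] [IsAlgClosed k] [Field k'] [Algebra k k']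
    {X : Scheme.{u}} (f : X ⟶ Spec (CommRingCat.of k)) :
    (FEt.restrict (pullback.fst f (Spec.map (CommRingCat.ofHom (algebraMap k k'))))).Full ∧
      (FEt.restrict (pullback.fst f (Spec.map (CommRingCat.ofHom (algebraMap k k'))))).Faithful := by
  let φ := Spec.map (CommRingCat.ofHom (algebraMap k k'))
  haveI : ConnectedSpace ↥(Spec (CommRingCat.of k')) := inferInstanceAs (ConnectedSpace (PrimeSpectrum k'))
  haveI : GeometricallyConnected φ := GeomIrr.geometricallyConnected_of_isSepClosed φ
  haveI : UniversallyOpen φ := inferInstance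
  haveI : GeometricallyConnected (pullback.fst f φ) := inferInstance
  haveI : UniversallyOpen (pullback.fst f φ) := MorphismProperty.pullback_fst _ _ ‹UniversallyOpen φ›
  exact fullyFaithful_of_geometricallyConnected (pullback.fst f φ)

end Groth.Agent.AlgClosedExt25
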