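import Groth.Agent.Lib.AlgClosedExt25.Main
import Groth.Agent.Lib.SectionCompOpen4

/-!
# Invariance under extensions of algebraically closed fields: disconnected case
-/

open CategoryTheory Limits AlgebraicGeometry TopologicalSpace

set_option autoImplicit false
set_option linter.style.haveILetI false
set_option backward.isDefEq.respectTransparency false

namespace Groth.Agent.AlgClosedExt25

universe u

/-- The essential image of a finite colimit preserving functor is closed under sums. -/
theorem essImage_sum {X Y : Scheme.{u}} (F : FEt.Cat X ⥤ FEt.Cat Y) [PreservesFiniteColimits F]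
    {A B : FEt.Cat Y} (hA : F.essImage A) (hB : F.essImage B) : F.essImage (FEtEq25.sum A B) := by
  obtain ⟨a, ⟨ea⟩⟩ := hA
  obtain ⟨b, ⟨eb⟩⟩ := hB
  exact ⟨FEtEq25.sum a b, ⟨IsColimit.coconePointsIsoOfNatIso
    (mapIsColimitOfPreservesOfIsColimit F (FEtEq25.sumInl a b) (FEtEq25.sumInr a b) (FEtEq25.sumIsColimit a b))
    (FEtEq25.sumIsColimit A B) (mapPairIso ea eb)⟩⟩

/-- Empty covers are in the essential image. -/
theorem essImage_of_isEmpty {X Y : Scheme.{u}} (F : FEt.Cat X ⥤ FEt.Cat Y) [PreservesFiniteColimits F]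
    (W : FEt.Cat Y) [IsEmpty W.left] : F.essImage W :=
  ⟨FEtEq25.empty X, ⟨((FEtEq25.emptyIsInitial X).isInitialObj F _).uniqueUpToIso
    (FEtLimit25.nonempty_isInitial_of_isEmpty W).some⟩⟩

/-- If connected covers are in the essential image, all covers are. -/
theorem essSurj_of_connected {X Y : Scheme.{u}} (F : FEt.Cat X ⥤ FEt.Cat Y) [PreservesFiniteColimits F]
    [IsNoetherian Y] (h : ∀ W : FEt.Cat Y, ConnectedSpace W.left → F.essImage W) : F.EssSurj := by
  refine ⟨fun W => ?_⟩
  let w : W.left ⟶ Y := W.hom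
  haveI : IsFinite w := W.prop.1
  haveI : IsLocallyNoetherian W.left := LocallyOfFiniteType.isLocallyNoetherian w
  haveI : CompactSpace W.left := QuasiCompact.compactSpace_of_compactSpace w
  haveI : IsNoetherian W.left := {}
  suffices ∀ (C : Closeds W.left) (hC : IsOpen (C : Set W.left)),
      F.essImage (FEtEq25.openCover' W ⟨C, hC⟩ C.isClosed) by
    obtain ⟨V, ⟨e⟩⟩ := this ⊤ isOpen_univ
    exact ⟨V, ⟨e ≪≫ MorphismProperty.Over.isoMk (IsOpenImmersion.isoOfRangeEq (Scheme.Opens.ι _) (𝟙 W.left)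
      ((Scheme.Opens.range_ι _).trans (Set.range_id (α := W.left)).symm)) (by
        refine congrArg (fun t => t ≫ W.hom) (?_ : _ = Scheme.Opens.ι _)
        exact (Category.comp_id _).symm.trans (IsOpenImmersion.isoOfRangeEq_hom_fac _ _ _))⟩⟩
  intro C
  induction C using WellFoundedLT.induction with
  | _ C ih =>
    intro hC
    let W' := FEtEq25.openCover' W ⟨C, hC⟩ C.isClosed
    rcases isEmpty_or_nonempty W'.left with hempty | hne
    · exact essImage_of_isEmpty F W'
    by_cases hconn : PreconnectedSpace W'.left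
    · exact h W' { toPreconnectedSpace := hconn, toNonempty := hne }
    rw [preconnectedSpace_iff_clopen] at hconn
    push_neg at hconn
    obtain ⟨S, hS, hS₁, hS₂⟩ := hconn
    let S₁ : W'.left.Opens := ⟨S, hS.2⟩
    let S₂ : W'.left.Opens := ⟨Sᶜ, hS.compl.2⟩
    let i : W'.left ⟶ W.left := Scheme.Opens.ι _
    haveI : IsClosedImmersion i := IsClosedImmersion.of_isPreimmersion _ (by
      change IsClosed (Set.range (Scheme.Opens.ι (⟨C, hC⟩ : W.left.Opens)))
      rw [Scheme.Opens.range_ι]; exact C.isClosed)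
    have key : ∀ (T : W'.left.Opens) (hT : IsClopen (T : Set W'.left)) (_ : (T : Set W'.left) ≠ Set.univ),
        F.essImage (FEtEq25.openCover' W' T hT.1) := by
      intro T hT hne'
      let D : Closeds W.left := ⟨i '' T, i.isClosedEmbedding.isClosedMap _ hT.1⟩
      have hD : IsOpen (D : Set W.left) := i.isOpenEmbedding.isOpenMap _ hT.2
      have hlt : D < C := by
        refine lt_of_le_of_ne ?_ fun heq => hne' (Set.eq_univ_of_forall fun x => ?_)
        · rintro _ ⟨x, -, rfl⟩
          exact x.2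
        · have hx : i x ∈ (D : Set W.left) := by rw [heq]; exact x.2
          obtain ⟨y, hy, hxy⟩ := hx
          rwa [← i.isClosedEmbedding.injective hxy]
      obtain ⟨V, ⟨e⟩⟩ := ih D hlt hD
      refine ⟨V, ⟨e ≪≫ (MorphismProperty.Over.isoMk (IsOpenImmersion.isoOfRangeEq (T.ι ≫ i) (Scheme.Opens.ι _)
        ?_) ?_).symm⟩⟩
      · rw [Scheme.Hom.comp_base, TopCat.coe_comp, Set.range_comp]
        refine Eq.trans ?_ (Scheme.Opens.range_ι (⟨D, hD⟩ : W.left.Opens)).symm
        exact congrArg (i '' ·) (Scheme.Opens.range_ι T)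
      · show _ ≫ Scheme.Opens.ι _ ≫ W.hom = T.ι ≫ i ≫ W.hom
        exact (IsOpenImmersion.isoOfRangeEq_hom_fac_assoc _ _ _ _).trans (Category.assoc _ _ _)
    have h₁ := key S₁ hS hS₂
    have h₂ := key S₂ hS.compl (fun h => hS₁.ne_empty (Set.compl_univ_iff.1 h))
    obtain ⟨hc⟩ := nonempty_isColimit_binaryCofanMk_of_isCompl S₁.ι S₂.ι (by
      rw [Scheme.Opens.opensRange_ι, Scheme.Opens.opensRange_ι]
      refine ⟨disjoint_iff.2 ?_, codisjoint_iff.2 ?_⟩
      · exact Opens.ext (Set.inter_compl_self S)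
      · exact Opens.ext (Set.union_compl_self S))
    obtain ⟨V, ⟨e⟩⟩ := essImage_sum F h₁ h₂
    refine ⟨V, ⟨e ≪≫ MorphismProperty.Over.isoMk ((coprodIsCoprod _ _).coconePointUniqueUpToIso hc) ?_⟩⟩
    apply coprod.hom_ext
    · erw [(coprodIsCoprod S₁.toScheme S₂.toScheme).comp_coconePointUniqueUpToIso_hom_assoc hc ⟨WalkingPair.left⟩]
      exact (coprod.inl_desc _ _).symm
    · erw [(coprodIsCoprod S₁.toScheme S₂.toScheme).comp_coconePointUniqueUpToIso_hom_assoc hc ⟨WalkingPair.right⟩]
      exact (coprod.inr_desc _ _).symm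

variable (k k' : Type u) [Field k] [IsAlgClosed k] [Field k'] [IsAlgClosed k'] [Algebra k k']

/-- Connected covers of the extended scheme come from below. -/
theorem essImage_of_connected' {X : Scheme.{u}} (f : X ⟶ Spec (CommRingCat.of k)) [IsProper f]
    (W : FEt.Cat (pullback f (Spec.map (CommRingCat.ofHom (algebraMap k k'))))) [ConnectedSpace W.left] :
    (FEt.restrict (ext k k' f)).essImage W := by
  let φ := Spec.map (CommRingCat.ofHom (algebraMap k k'))
  haveI : IsLocallyNoetherian X := LocallyOfFiniteType.isLocallyNoetherian f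
  haveI := SectionCompOpen4.locallyConnectedSpace X
  let w : W.left ⟶ pullback f φ := W.hom
  haveI : IsFinite w := W.prop.1
  haveI : Etale w := W.prop.2
  let x₀ : X := ext k k' f (w (Classical.arbitrary W.left))
  let X₁ : X.Opens := ⟨connectedComponent x₀, isOpen_connectedComponent⟩
  have hX₁ : IsClopen (X₁ : Set X) := ⟨isClosed_connectedComponent, isOpen_connectedComponent⟩
  let ι := X₁.ι
  haveI : IsClosedImmersion ι := IsClosedImmersion.of_isPreimmersion _ (by
    rw [Scheme.Opens.range_ι]; exact hX₁.1)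
  haveI : ConnectedSpace X₁.toScheme := isConnected_iff_connectedSpace.1 isConnected_connectedComponent
  let f₁ : X₁.toScheme ⟶ Spec (CommRingCat.of k) := ι ≫ f
  let r' : pullback f₁ φ ⟶ pullback f φ := pullback.map f₁ φ f φ ι (𝟙 _) (𝟙 _) (by simp [f₁]) (by simp)
  have hr' : IsPullback r' (pullback.fst f₁ φ) (pullback.fst f φ) ι := by
    refine IsPullback.of_right ?_ (pullback.lift_fst _ _ _) (IsPullback.of_hasPullback f φ).flip
    rw [show r' ≫ pullback.snd f φ = pullback.snd f₁ φ from (pullback.lift_snd _ _ _).trans (Category.comp_id _)]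
    exact (IsPullback.of_hasPullback f₁ φ).flip
  haveI : IsOpenImmersion r' := MorphismProperty.of_isPullback (P := @IsOpenImmersion) hr'.flip inferInstance
  have hrange : Set.range w ⊆ Set.range r' := by
    have h1 : (w ≫ ext k k' f) ⁻¹' (X₁ : Set X) = Set.univ :=
      (hX₁.preimage (Scheme.Hom.continuous _)).eq_univ ⟨Classical.arbitrary _, mem_connectedComponent⟩
    rintro _ ⟨a, rfl⟩
    have ha : ext k k' f (w a) ∈ Set.range ι := by
      rw [Scheme.Opens.range_ι]
      exact h1.ge (Set.mem_univ a)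
    obtain ⟨b, hb⟩ := ha
    obtain ⟨c, hc, -⟩ := Scheme.exists_preimage_of_isPullback hr' _ _ hb.symm
    exact ⟨c, hc⟩
  let w₁ : W.left ⟶ pullback f₁ φ := IsOpenImmersion.lift r' w hrange
  have hw₁ : w₁ ≫ r' = w := IsOpenImmersion.lift_fac _ _ _
  haveI : IsFinite w₁ := MorphismProperty.of_postcomp @IsFinite (W' := @IsSeparated) w₁ r' inferInstance (hw₁ ▸ ‹IsFinite w›)
  haveI : Etale (w₁ ≫ r') := hw₁ ▸ ‹Etale w›
  haveI : Etale w₁ := Etale.of_comp w₁ r'
  let W₁ : FEt.Cat (pullback f₁ φ) := MorphismProperty.Over.mk ⊤ w₁ ⟨inferInstance, inferInstance⟩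
  haveI : ConnectedSpace W₁.left := ‹ConnectedSpace W.left›
  obtain ⟨V₁, ⟨e⟩⟩ := essImage_of_connected k k' f₁ W₁
  let v₁ : V₁.left ⟶ X₁.toScheme := V₁.hom
  haveI : IsFinite v₁ := V₁.prop.1
  haveI : Etale v₁ := V₁.prop.2
  let V : FEt.Cat X := MorphismProperty.Over.mk ⊤ (v₁ ≫ ι) ⟨inferInstance, inferInstance⟩
  have hV : IsPullback (pullback.fst v₁ (pullback.fst f₁ φ)) (pullback.snd v₁ (pullback.fst f₁ φ) ≫ r')
      (v₁ ≫ ι) (ext k k' f) := (IsPullback.of_hasPullback v₁ (pullback.fst f₁ φ)).paste_vert hr'.flip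
  refine ⟨V, ⟨MorphismProperty.Over.isoMk (hV.isoPullback.symm ≪≫ (MorphismProperty.Over.forget _ _ _ ⋙ Over.forget _).mapIso e) ?_⟩⟩
  have he : e.hom.left ≫ w₁ = pullback.snd v₁ (pullback.fst f₁ φ) := MorphismProperty.Over.w e.hom
  show (hV.isoPullback.inv ≫ e.hom.left) ≫ w = pullback.snd (v₁ ≫ ι) (ext k k' f)
  rw [← hw₁, Category.assoc, reassoc_of% he]
  exact hV.isoPullback_inv_snd

/-- Invariance under extensions of algebraically closed fields. -/
theorem restrict_ext_isEquivalence {X : Scheme.{u}} (f : X ⟶ Spec (CommRingCat.of k)) [IsProper f] :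
    (FEt.restrict (ext k k' f)).IsEquivalence := by
  let φ := Spec.map (CommRingCat.ofHom (algebraMap k k'))
  haveI : IsLocallyNoetherian (pullback f φ) := LocallyOfFiniteType.isLocallyNoetherian (pullback.snd f φ)
  haveI : CompactSpace ↥(pullback f φ) := QuasiCompact.compactSpace_of_compactSpace (pullback.snd f φ)
  haveI : IsNoetherian (pullback f φ) := {}
  haveI := FEtEq25.preservesFiniteColimits_restrict (ext k k' f)
  have hff := fullyFaithful_fieldExtension k k' f
  exact { full := hff.1, faithful := hff.2, essSurj := essSurj_of_connected _ fun W hW => haveI := hW; essImage_of_connected' k k' f W }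

end Groth.Agent.AlgClosedExt25
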