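import Groth.Agent.Lib.FEtLimit25.Field
import Groth.Agent.Lib.GeomIrr18.Scheme
import Mathlib.RingTheory.Jacobson.Ring
import Mathlib.RingTheory.FiniteType
import Mathlib.AlgebraicGeometry.AlgClosed.Basic

/-!
# Models of covers over finitely generated subalgebras of a field extension
-/

set_option autoImplicit false
set_option linter.style.haveILetI false
set_option backward.isDefEq.respectTransparency.types false

universe u

open CategoryTheory CategoryTheory.Limits AlgebraicGeometry TopologicalSpace Opposite

noncomputable section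

namespace Groth.Agent.AlgClosedExt25

open Groth.Agent.AlgColimH13 in
theorem finiteType_ring (k K : Type u) [Field k] [Field K] [Algebra k K] (i : Idx k K) :
    Algebra.FiniteType k i.Ring := by
  haveI : Finite (i.gens : Set K) := i.gens.finite_toSet.to_subtype
  infer_instance

theorem exists_model_fg (k K : Type u) [Field k] [IsAlgClosed k] [Field K] [Algebra k K]
    {X : Scheme.{u}} (f : X ⟶ Spec (CommRingCat.of k)) [CompactSpace ↥X] [QuasiSeparatedSpace ↥X]
    {Ybar : Scheme.{u}} (g : Ybar ⟶ pullback f (Spec.map (CommRingCat.ofHom (algebraMap k K))))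
    [IsFinite g] [Etale g] :
    ∃ (U : Scheme.{u}) (gU : U ⟶ Spec (CommRingCat.of k)) (_ : IsNoetherian U) (_ : ConnectedSpace U)
      (u₀ : Spec (CommRingCat.of k) ⟶ U) (_ : u₀ ≫ gU = 𝟙 _) (t : Spec (CommRingCat.of K) ⟶ U)
      (ht : t ≫ gU = Spec.map (CommRingCat.ofHom (algebraMap k K)))
      (YU : Scheme.{u}) (y : YU ⟶ pullback f gU) (_ : IsFinite y) (_ : Etale y) (q : Ybar ⟶ YU),
      IsPullback q g y (pullback.map f (Spec.map (CommRingCat.ofHom (algebraMap k K))) f gU (𝟙 X) t (𝟙 _)
        (by simp) (by simp [ht])) := by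
  let D : (AlgColimH13.Idx k K)ᵒᵖ ⥤ Scheme.{u} := (AlgColimH13.ringDiag k K).op ⋙ Scheme.Spec
  let t : D ⟶ (Functor.const _).obj (Spec (CommRingCat.of k)) :=
    { app := fun i => Spec.map (AlgColimH13.str k K i.unop)
      naturality := fun i j a => by
        show Spec.map ((AlgColimH13.ringDiag k K).map a.unop) ≫ Spec.map (AlgColimH13.str k K j.unop) =
          Spec.map (AlgColimH13.str k K i.unop) ≫ 𝟙 _
        rw [← Spec.map_comp, AlgColimH13.str_map, Category.comp_id] }
  let c₀ : Cone D := { pt := Spec (CommRingCat.of K)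
                       π := { app := fun i => Spec.map (AlgColimH13.proj k K i.unop)
                              naturality := fun i j a => by
                                show 𝟙 _ ≫ Spec.map (AlgColimH13.proj k K j.unop) =
                                  Spec.map (AlgColimH13.proj k K i.unop) ≫ Spec.map ((AlgColimH13.ringDiag k K).map a.unop)
                                rw [Category.id_comp, ← Spec.map_comp, AlgColimH13.map_proj] } }
  have hc₀ : IsLimit c₀ := (IsLimit.equivIsoLimit (Cone.ext (Iso.refl _) fun i => (Category.id_comp _).symm))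
    (isLimitOfPreserves Scheme.Spec (AlgColimH13.ringIsColimit k K).op)
  haveI : ∀ i, IsAffineHom (t.app i) := fun i => inferInstanceAs (IsAffineHom (Spec.map (AlgColimH13.str k K i.unop)))
  have hq : ∀ i, c₀.π.app i ≫ t.app i = Spec.map (CommRingCat.ofHom (algebraMap k K)) := fun i => by
    show Spec.map _ ≫ Spec.map _ = _
    rw [← Spec.map_comp, AlgColimH13.str_proj]
  have hP := IsPullback.of_hasPullback f (Spec.map (CommRingCat.ofHom (algebraMap k K)))
  let E := Descend.pbDiagram D t f
  let e := Descend.pbCone D t f c₀ hq hP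
  have he : IsLimit e := Descend.pbIsLimit D t f c₀ hq hP hc₀
  haveI : ∀ (i j : (AlgColimH13.Idx k K)ᵒᵖ) (a : i ⟶ j), IsAffineHom (E.map a) := fun i j a =>
    MorphismProperty.of_isPullback (P := @IsAffineHom) (Descend.pbMap_isPullback D t f a).flip
      (isAffineHom_of_isAffine (Spec.map ((AlgColimH13.ringDiag k K).map a.unop)))
  haveI : ∀ i, CompactSpace (E.obj i) := fun i =>
    haveI : IsAffineHom (pullback.fst f (t.app i)) := MorphismProperty.pullback_fst _ _ inferInstance
    QuasiCompact.compactSpace_of_compactSpace (pullback.fst f (t.app i))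
  haveI : ∀ i, QuasiSeparatedSpace (E.obj i) := fun i =>
    haveI : IsAffineHom (pullback.fst f (t.app i)) := MorphismProperty.pullback_fst _ _ inferInstance
    quasiSeparatedSpace_of_quasiSeparated (pullback.fst f (t.app i))
  let g' : Ybar ⟶ e.pt := g
  haveI : IsFinite g' := ‹IsFinite g›
  haveI : Etale g' := ‹Etale g›
  obtain ⟨i, Pi, pi, q, h1, h2, h3, hsq⟩ := FEtLimit25.exists_model he g'
  haveI := h1; haveI := h2
  let A := i.unop.toB.range
  let r : i.unop.Ring →ₐ[k] A := i.unop.toB.rangeRestrict
  haveI := finiteType_ring k K i.unop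
  haveI : Algebra.FiniteType k A := Algebra.FiniteType.of_surjective r i.unop.toB.rangeRestrict_surjective
  haveI : IsNoetherianRing A := Algebra.FiniteType.isNoetherianRing k A
  let sL := Spec.map (CommRingCat.ofHom (algebraMap k A))
  have hsL : sL = Spec.map (CommRingCat.ofHom r.toRingHom) ≫ t.app i := by
    show Spec.map _ = Spec.map _ ≫ Spec.map (AlgColimH13.str k K i.unop)
    rw [← Spec.map_comp]
    exact congrArg Spec.map (CommRingCat.hom_ext (RingHom.ext fun a => (r.commutes a).symm))
  let b : pullback f sL ⟶ E.obj i := pullback.lift (pullback.fst f sL)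
    (pullback.snd f sL ≫ Spec.map (CommRingCat.ofHom r.toRingHom)) (by
      exact (pullback.condition.trans (congrArg (pullback.snd f sL ≫ ·) hsL)).trans (Category.assoc _ _ _).symm)
  let tK : Spec (CommRingCat.of K) ⟶ Spec (CommRingCat.of A) := Spec.map (CommRingCat.ofHom A.val.toRingHom)
  have htK : tK ≫ sL = Spec.map (CommRingCat.ofHom (algebraMap k K)) := by
    rw [← Spec.map_comp]
    rfl
  obtain ⟨m, hm⟩ := Ideal.exists_maximal A
  let u : Spec (CommRingCat.of A) := ⟨m, hm.isPrime⟩
  have hu : IsClosed ({u} : Set (Spec (CommRingCat.of A))) :=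
    (PrimeSpectrum.isClosed_singleton_iff_isMaximal (R := A) u).2 hm
  haveI : LocallyOfFiniteType sL := by
    rw [HasRingHomProperty.Spec_iff (P := @LocallyOfFiniteType)]
    exact RingHom.finiteType_algebraMap.2 inferInstance
  let c := pullback.map f (Spec.map (CommRingCat.ofHom (algebraMap k K))) f sL (𝟙 X) tK (𝟙 _) (by simp) (by simp [htK])
  refine ⟨Spec (CommRingCat.of A), sL, inferInstance, inferInstanceAs (ConnectedSpace (PrimeSpectrum A)),
    pointOfClosedPoint sL u hu, pointOfClosedPoint_comp _ _ _, tK, htK, pullback pi b, pullback.snd pi b,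
    inferInstance, inferInstance, ?_⟩
  have hcb : c ≫ b = e.π.app i := by
    refine pullback.hom_ext ?_ ?_
    · refine ((Category.assoc _ _ _).trans ((congrArg (c ≫ ·) (pullback.lift_fst _ _ _)).trans ?_)).trans
        (Descend.pbCone_fst D t f c₀ hq hP i).symm
      exact (pullback.lift_fst _ _ _).trans (Category.comp_id _)
    · refine ((Category.assoc _ _ _).trans ((congrArg (c ≫ ·) (pullback.lift_snd _ _ _)).trans ?_)).trans
        (Descend.pbCone_snd D t f c₀ hq hP i).symm
      refine (pullback.lift_snd_assoc _ _ _ _).trans ?_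
      rw [Category.assoc, ← Spec.map_comp]
      rfl
  let m' : Ybar ⟶ pullback pi b := pullback.lift q (g ≫ c) (by rw [Category.assoc, hcb]; exact hsq.w)
  refine ⟨m', IsPullback.of_right ?_ (pullback.lift_snd _ _ _) (IsPullback.of_hasPullback pi b)⟩
  rw [pullback.lift_fst, hcb]
  exact hsq

end Groth.Agent.AlgClosedExt25
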