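import Groth.Agent.Lib.AlgClosedExt25.Geometry
import Groth.Agent.Lib.AlgClosedExt25.Ff
import Groth.Agent.Lib.AlgClosedExt25.Model
import Groth.Agent.Lib.FEtLimit25.EssImage
import Groth.Agent.Lib.FEtLimit25.TopInv
import Groth.Agent.Lib.RedSep.Basic

/-!
# Invariance of the fundamental group of a proper scheme under extensions of algebraically closed fields
-/

open CategoryTheory Limits AlgebraicGeometry TopologicalSpace

set_option autoImplicit false
set_option linter.style.haveILetI false
set_option backward.isDefEq.respectTransparency false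

namespace Groth.Agent.AlgClosedExt25

universe u

variable (k k' : Type u) [Field k] [IsAlgClosed k] [Field k'] [IsAlgClosed k'] [Algebra k k']

/-- The base extension morphism. -/
noncomputable abbrev ext {X : Scheme.{u}} (f : X ⟶ Spec (CommRingCat.of k)) :
    pullback f (Spec.map (CommRingCat.ofHom (algebraMap k k'))) ⟶ X :=
  pullback.fst f (Spec.map (CommRingCat.ofHom (algebraMap k k')))

theorem exists_dominated_reduced {X : Scheme.{u}} (f : X ⟶ Spec (CommRingCat.of k)) [IsProper f] [IsReduced X]
    [ConnectedSpace X] (W : FEt.Cat (pullback f (Spec.map (CommRingCat.ofHom (algebraMap k k'))))) [Nonempty W.left] :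
    ∃ (X' : FEt.Cat X) (_ : Nonempty X'.left), Nonempty ((FEt.restrict (ext k k' f)).obj X' ⟶ W) := by
  haveI : CompactSpace X := QuasiCompact.compactSpace_of_compactSpace f
  haveI : QuasiSeparatedSpace X := quasiSeparatedSpace_of_quasiSeparated f
  let φ := Spec.map (CommRingCat.ofHom (algebraMap k k'))
  let w : W.left ⟶ pullback f φ := W.hom
  haveI : IsFinite w := W.prop.1
  haveI : Etale w := W.prop.2
  obtain ⟨U, gU, _, _, u₀, hu₀, t, ht, YU, y, hy₁, hy₂, q, hq⟩ := exists_model_fg k k' f w
  let Z : FEt.Cat (pullback f gU) := MorphismProperty.Over.mk ⊤ y ⟨hy₁, hy₂⟩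
  haveI : Nonempty Z.left := ⟨q (Classical.arbitrary W.left)⟩
  obtain ⟨X', hX', hdom⟩ := exists_constant_domination f gU u₀ hu₀ Z
  obtain ⟨m, hm⟩ := hdom k' t
  let x' : X'.left ⟶ X := X'.hom
  let A := pullback x' (pullback.fst f φ)
  have hA : pullback.fst x' (pullback.fst f φ) ≫ x' ≫ f =
      (pullback.snd x' (pullback.fst f φ) ≫ pullback.snd f φ) ≫ t ≫ gU := by
    rw [pullback.condition_assoc, pullback.condition, ht, Category.assoc]
  let a : A ⟶ pullback (x' ≫ f) (t ≫ gU) := pullback.lift (pullback.fst _ _) (pullback.snd _ _ ≫ pullback.snd f φ) hA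
  have hcomp : (a ≫ m) ≫ y = pullback.snd x' (pullback.fst f φ) ≫
      pullback.map f φ f gU (𝟙 X) t (𝟙 _) (by simp) (by simp [φ, ht]) := by
    rw [Category.assoc, show m ≫ y = _ from hm]
    apply pullback.hom_ext
    · have h1 : a ≫ pullback.map (x' ≫ f) (t ≫ gU) f gU x' t (𝟙 _) (by simp) (by simp) ≫ pullback.fst f gU =
          pullback.fst x' (pullback.fst f φ) ≫ x' := by simp [a]
      simp only [Category.assoc]
      refine h1.trans ?_
      rw [pullback.condition]
      simp
    · simp only [Category.assoc, pullback.lift_snd, a]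
      erw [pullback.lift_snd_assoc]
      simp
  exact ⟨X', ⟨Classical.arbitrary _⟩,
    ⟨MorphismProperty.Over.homMk (hq.lift (a ≫ m) (pullback.snd x' (pullback.fst f φ)) hcomp) (hq.lift_snd _ _ hcomp)⟩⟩

/-- Nonempty covers of the extended scheme are dominated by constant ones. -/
theorem exists_dominated {X : Scheme.{u}} (f : X ⟶ Spec (CommRingCat.of k)) [IsProper f]
    [ConnectedSpace X] (W : FEt.Cat (pullback f (Spec.map (CommRingCat.ofHom (algebraMap k k'))))) [Nonempty W.left] :
    ∃ (X' : FEt.Cat X) (_ : Nonempty X'.left), Nonempty ((FEt.restrict (ext k k' f)).obj X' ⟶ W) := by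
  let φ := Spec.map (CommRingCat.ofHom (algebraMap k k'))
  let I := Scheme.IdealSheafData.vanishingIdeal (⊤ : Closeds X)
  let r : I.subscheme ⟶ X := I.subschemeι
  haveI : Surjective r := ⟨fun x => by
    have : x ∈ Set.range r := by
      rw [Scheme.IdealSheafData.range_subschemeι, Scheme.IdealSheafData.coe_support_vanishingIdeal]
      trivial
    exact this⟩
  haveI : ConnectedSpace I.subscheme := (r.isClosedEmbedding.isEmbedding.toHomeomorphOfSurjective
    r.surjective).symm.surjective.connectedSpace
      (r.isClosedEmbedding.isEmbedding.toHomeomorphOfSurjective r.surjective).symm.continuous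
  let r' : pullback (r ≫ f) φ ⟶ pullback f φ := pullback.map (r ≫ f) φ f φ r (𝟙 _) (𝟙 _) (by simp) (by simp)
  have hr' : IsPullback r' (pullback.fst (r ≫ f) φ) (pullback.fst f φ) r := by
    refine IsPullback.of_right ?_ (pullback.lift_fst _ _ _) (IsPullback.of_hasPullback f φ).flip
    rw [show r' ≫ pullback.snd f φ = pullback.snd (r ≫ f) φ from (pullback.lift_snd _ _ _).trans (Category.comp_id _)]
    exact (IsPullback.of_hasPullback (r ≫ f) φ).flip
  haveI : IsClosedImmersion r' := MorphismProperty.of_isPullback (P := @IsClosedImmersion) hr'.flip inferInstance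
  haveI : Surjective r' := MorphismProperty.of_isPullback (P := @Surjective) hr'.flip inferInstance
  let W₁ := (FEt.restrict r').obj W
  haveI : Nonempty W₁.left := by
    let w : W.left ⟶ pullback f φ := W.hom
    haveI : Surjective (pullback.fst w r') := MorphismProperty.pullback_fst _ _ ‹Surjective r'›
    obtain ⟨x, -⟩ := (pullback.fst w r').surjective (Classical.arbitrary W.left)
    exact ⟨x⟩
  haveI : IsReduced I.subscheme := RedSepLib.isReduced_vanishingIdeal_subscheme _
  obtain ⟨Y, hY, ⟨m⟩⟩ := exists_dominated_reduced k k' (r ≫ f) W₁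
  haveI : UniversallyInjective r := inferInstance
  haveI := FEtLimit25.restrict_isEquivalence r (fullyFaithful_of_closedImmersion r)
  obtain ⟨X', ⟨e⟩⟩ := Functor.EssSurj.mem_essImage (FEt.restrict r) Y
  haveI : Nonempty X'.left := by
    let x' : X'.left ⟶ X := X'.hom
    let v : ↥(pullback x' r) := e.inv.left (Classical.arbitrary Y.left)
    exact ⟨pullback.fst x' r v⟩
  have hsq : r' ≫ ext k k' f = pullback.fst (r ≫ f) φ ≫ r := pullback.lift_fst _ _ _
  haveI := (fullyFaithful_of_closedImmersion r').1
  exact ⟨X', inferInstance, ⟨(FEt.restrict r').preimage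
    ((restrictSquare r' (ext k k' f) (pullback.fst (r ≫ f) φ) r hsq X').hom ≫
      (FEt.restrict (pullback.fst (r ≫ f) φ)).map e.hom ≫ m)⟩⟩

/-- Connected covers of a connected extended scheme come from below. -/
theorem essImage_of_connected {X : Scheme.{u}} (f : X ⟶ Spec (CommRingCat.of k)) [IsProper f]
    [ConnectedSpace X] (W : FEt.Cat (pullback f (Spec.map (CommRingCat.ofHom (algebraMap k k'))))) [ConnectedSpace W.left] :
    (FEt.restrict (ext k k' f)).essImage W := by
  let φ := Spec.map (CommRingCat.ofHom (algebraMap k k'))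
  haveI := geometricallyConnected_of_connected f
  haveI : ConnectedSpace ↥(pullback f φ) :=
    GeometricallyConnected.geometrically_connectedSpace (f := f) φ _ _ (IsPullback.of_hasPullback f φ)
  obtain ⟨X', hX', ⟨m⟩⟩ := exists_dominated k k' f W
  obtain ⟨K, _, _, x, -⟩ := FEtEq25.exists_geomPoint (W := X) (Classical.arbitrary X)
  obtain ⟨K', _, _, z, -⟩ := FEtEq25.exists_geomPoint (W := pullback f φ) (Classical.arbitrary _)
  haveI : GaloisCategory (FEt.Cat X) := { hasFiberFunctor := ⟨FEtEq25.fiberFin x, ⟨FEtEq25.fiberFunctor x⟩⟩ }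
  haveI := FEtEq25.fiberFunctor z
  haveI : GaloisCategory (FEt.Cat (pullback f φ)) :=
    { hasFiberFunctor := ⟨FEtEq25.fiberFin z, ⟨FEtEq25.fiberFunctor z⟩⟩ }
  haveI := FEtLimit25.isConnected_of_connectedSpace W
  haveI := FEtEq25.preservesFiniteLimits_restrict (ext k k' f)
  haveI := FEtEq25.preservesFiniteColimits_restrict (ext k k' f)
  let x' : X'.left ⟶ X := X'.hom
  haveI : IsFinite x' := X'.prop.1
  haveI : Etale x' := X'.prop.2
  let p : pullback x' (ext k k' f) ⟶ pullback f φ := pullback.snd x' (ext k k' f)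
  haveI : IsFinite p := MorphismProperty.pullback_snd _ _ ‹IsFinite x'›
  haveI : Etale p := MorphismProperty.pullback_snd _ _ ‹Etale x'›
  haveI : Surjective x' := by
    refine ⟨fun b => ?_⟩
    obtain ⟨a, -, ha⟩ := ((FEtEq25.isClopen_image x' isClopen_univ).eq_univ
      (Set.univ_nonempty.image (x' : X'.left → X))).ge (Set.mem_univ b)
    exact ⟨a, ha⟩
  haveI : Surjective p := MorphismProperty.pullback_snd _ _ ‹Surjective x'›
  obtain ⟨b, hb⟩ := p.surjective (z (IsLocalRing.closedPoint K'))
  obtain ⟨v, hv, -⟩ := FEtEq25.exists_fiber_point z p b hb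
  exact FEtLimit25.mem_essImage_of_dominated (FEt.restrict (ext k k' f)) (fullyFaithful_fieldExtension k k' f)
    (FEtEq25.fiberFin z) m ⟨v, hv⟩

end Groth.Agent.AlgClosedExt25
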