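import Groth.Agent.Lib.AlgClosedExt25.General
import Groth.Agent.Lib.Pur25.Square
import Groth.Agent.Lib.RelCyc15.PerfectPull

/-!
# Invariance under extensions of separably closed fields
-/

open CategoryTheory Limits AlgebraicGeometry TopologicalSpace

set_option autoImplicit false
set_option linter.style.haveILetI false
set_option backward.isDefEq.respectTransparency false

namespace Groth.Agent.AlgClosedExt25

universe u

/-- Restriction along a universal homeomorphism is an equivalence. -/
theorem isEquivalence_of_universalHomeo {X Y : Scheme.{u}} (i : Y ⟶ X) [IsIntegralHom i] [UniversallyInjective i]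
    [Surjective i] : (FEt.restrict i).IsEquivalence := by
  refine FEtLimit25.restrict_isEquivalence i (fullyFaithful_of_saturated i fun {Z} h _ C hC => ?_)
  let π := pullback.fst h i
  haveI : IsIntegralHom π := MorphismProperty.pullback_fst _ _ ‹IsIntegralHom i›
  haveI : UniversallyInjective π := MorphismProperty.pullback_fst _ _ ‹UniversallyInjective i›
  haveI : Surjective π := MorphismProperty.pullback_fst _ _ ‹Surjective i›
  have hinj : Function.Injective π := π.injective
  have hpre : π ⁻¹' (π '' C) = C := Set.preimage_image_eq C hinj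
  have hcompl : (π '' C)ᶜ = π '' Cᶜ := (Set.image_compl_eq ⟨hinj, π.surjective⟩).symm
  exact ⟨⟨π.isClosedMap _ hC.1, isClosed_compl_iff.1 (hcompl ▸ π.isClosedMap _ hC.compl.1)⟩, hpre⟩

/-- Pullback along the algebraic closure of a separably closed field is an equivalence. -/
theorem isEquivalence_fst_of_purelyInseparable (k K : Type u) [Field k] [Field K] [Algebra k K]
    [IsPurelyInseparable k K] {Z : Scheme.{u}} {P : Scheme.{u}} (g : P ⟶ Z) (s : Z ⟶ Spec (CommRingCat.of k))
    (s' : P ⟶ Spec (CommRingCat.of K)) (h : IsPullback g s' s (Spec.map (CommRingCat.ofHom (algebraMap k K)))) :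
    (FEt.restrict g).IsEquivalence := by
  haveI : IsIntegralHom (Spec.map (CommRingCat.ofHom (algebraMap k K))) :=
    IsIntegralHom.SpecMap_iff.2 (algebraMap_isIntegral_iff.2 inferInstance)
  haveI : IsIntegralHom g := MorphismProperty.of_isPullback h.flip ‹_›
  haveI : UniversallyInjective g := MorphismProperty.of_isPullback h.flip (RelCyc15.universallyInjective_spec k K)
  haveI : Surjective g := MorphismProperty.of_isPullback h.flip (RelCyc15.surjective_spec k K)
  exact isEquivalence_of_universalHomeo g

/-- Invariance under extensions of separably closed fields. -/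
theorem restrict_sepClosed_isEquivalence (k K : Type u) [Field k] [Field K] [IsSepClosed k] [IsSepClosed K]
    [Algebra k K] {X : Scheme.{u}} (f : X ⟶ Spec (CommRingCat.of k)) [IsProper f] :
    (FEt.restrict (pullback.fst f (Spec.map (CommRingCat.ofHom (algebraMap k K))))).IsEquivalence := by
  let σ : AlgebraicClosure k →ₐ[k] AlgebraicClosure K := IsAlgClosed.lift
  letI : Algebra (AlgebraicClosure k) (AlgebraicClosure K) := σ.toRingHom.toAlgebra
  let a := Spec.map (CommRingCat.ofHom (algebraMap k (AlgebraicClosure k)))
  let b := Spec.map (CommRingCat.ofHom (algebraMap k K))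
  let c := Spec.map (CommRingCat.ofHom (algebraMap K (AlgebraicClosure K)))
  let ψ := Spec.map (CommRingCat.ofHom (algebraMap (AlgebraicClosure k) (AlgebraicClosure K)))
  have hsq : ψ ≫ a = c ≫ b := by
    simp only [a, b, c, ψ, ← Spec.map_comp, ← CommRingCat.ofHom_comp]
    congr 2
    ext x
    exact (σ.commutes x).trans (IsScalarTower.algebraMap_apply k K (AlgebraicClosure K) x)
  let f₁ := pullback.snd f a
  let q := pullback.fst f₁ ψ ≫ pullback.fst f a
  have hq : q ≫ f = (pullback.snd f₁ ψ ≫ c) ≫ b := by
    simp only [q, Category.assoc, pullback.condition]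
    rw [← Category.assoc, show pullback.fst f₁ ψ ≫ pullback.snd f a = pullback.snd f₁ ψ ≫ ψ from pullback.condition,
      Category.assoc, hsq]
  let g : pullback f₁ ψ ⟶ pullback f b := pullback.lift q (pullback.snd f₁ ψ ≫ c) hq
  have hg : IsPullback g (pullback.snd f₁ ψ) (pullback.snd f b) c := by
    refine IsPullback.of_right ?_ (pullback.lift_snd _ _ _) (IsPullback.of_hasPullback f b)
    rw [show g ≫ pullback.fst f b = q from pullback.lift_fst _ _ _, ← hsq]
    exact (IsPullback.of_hasPullback f₁ ψ).paste_horiz (IsPullback.of_hasPullback f a)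
  haveI := isEquivalence_fst_of_purelyInseparable K (AlgebraicClosure K) g _ _ hg
  haveI := isEquivalence_fst_of_purelyInseparable k (AlgebraicClosure k) _ _ _ (IsPullback.of_hasPullback f a)
  haveI : (FEt.restrict (pullback.fst f₁ ψ)).IsEquivalence :=
    restrict_ext_isEquivalence (AlgebraicClosure k) (AlgebraicClosure K) f₁
  haveI : (FEt.restrict (pullback.fst f b) ⋙ FEt.restrict g).IsEquivalence :=
    Functor.isEquivalence_of_iso (Pur25.restrictSquare (pullback.fst f a) (pullback.fst f₁ ψ) (pullback.fst f b) g
      (pullback.lift_fst _ _ _))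
  exact Functor.isEquivalence_of_comp_right _ (FEt.restrict g)

end Groth.Agent.AlgClosedExt25
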